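import Groth.Agent.CurvePt15.Drop
import Groth.Agent.DivX.MeroMod
import Groth.Agent.Curves16.PointReg
import Groth.Agent.AssPtX.Noeth
import Groth.Agent.AssPtX.Regular
import Groth.Agent.InvX.GenEpi

/-! Sections of nested Cartier divisors on a curve. -/

noncomputable section

set_option linter.style.haveILetI false
set_option linter.unusedSectionVars false
set_option backward.isDefEq.respectTransparency false
set_option backward.isDefEq.respectTransparency.types false

universe u

open CategoryTheory CategoryTheory.Limits AlgebraicGeometry TopologicalSpace Opposite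
open Groth.Agent.PnCoh.Finite (mapLin)

namespace Groth.Agent.CurvePt15

open Groth.Agent

variable {X : Scheme.{u}}

/-- A point of a curve which is not closed has no further generisation. -/
theorem eq_of_specializes_nonclosed (hdim : topologicalKrullDim X ≤ 1) {y z : X}
    (hy : ¬ IsClosed ({y} : Set X)) (h : z ⤳ y) : z = y := by
  obtain ⟨w, hw, hwy⟩ : ∃ w ∈ closure ({y} : Set X), w ≠ y := by
    by_contra hne
    push Not at hne
    exact hy (closure_eq_iff_isClosed.1 (Set.Subset.antisymm hne subset_closure))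
  by_contra hzy
  let c : X → IrreducibleCloseds X := fun v => ⟨closure {v}, isIrreducible_singleton.closure, isClosed_closure⟩
  have hlt : ∀ {a b : X}, a ⤳ b → a ≠ b → c b < c a := fun {a b} hab hne => by
    refine lt_of_le_of_ne (specializes_iff_closure_subset.1 hab) fun he => hne ?_
    exact (hab.antisymm (specializes_iff_closure_subset.2 (congrArg IrreducibleCloseds.carrier he).ge)).eq
  let s : LTSeries (IrreducibleCloseds X) :=
    ((RelSeries.singleton _ (c w)).snoc (c y) (hlt (specializes_iff_mem_closure.2 hw) (Ne.symm hwy))).snoc (c z)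
      (by simpa using hlt h hzy)
  have h2 : (2 : WithBot ℕ∞) ≤ topologicalKrullDim X :=
    le_of_eq_of_le (by simp [s]) (Order.LTSeries.length_le_krullDim s)
  exact absurd (h2.trans hdim) (by decide)

/-- The section `1` of an effective divisor. -/
def oneSect {E : Mero.Divisor X} (hE : Mero.IsEffective E) : Γ(Mero.divMod E, ⊤) :=
  DivX.mkDiv E (1 : Γ(Mero.kmod X, ⊤)) fun y => by
    obtain ⟨a, ha⟩ := hE y.1
    refine DivX.divCond_of_rep ha ?_
    show (1 : Γ(Mero.kmod X, ⊤)).1 y * _ ∈ _
    rw [Mero.kmod_one_apply, one_mul]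
    exact ⟨a.1, rfl⟩

/-- Multiplication by the section `1`. -/
def oneHom {E : Mero.Divisor X} (hE : Mero.IsEffective E) : Coh.structureModule X ⟶ Mero.divMod E :=
  InvX.ofSect (oneSect hE)

theorem oneHom_app {E : Mero.Divisor X} (hE : Mero.IsEffective E) (U : X.Opens) (r : Γ(X, U)) (y : U) :
    ((oneHom hE).app U (r : Γ(Coh.structureModule X, U))).1 y =
      algebraMap (X.presheaf.stalk y.1) (Mero.KStalk X y.1) (X.presheaf.germ U y.1 y.2 r) := by
  have h0 : (oneHom hE).app U (r : Γ(Coh.structureModule X, U)) =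
      r • AModX.res (Mero.divMod E) (le_top : U ≤ ⊤) (oneSect hE) := rfl
  rw [h0]
  show (r • (show Γ(Mero.divMod E, U) from AModX.res (Mero.divMod E) (le_top : U ≤ ⊤) (oneSect hE))).1 y = _
  refine (Mero.modOf_smul_apply (P := Mero.divLoc X E) r _ y).trans ?_
  rw [Algebra.smul_def]
  exact (congrArg (algebraMap (X.presheaf.stalk y.1) (Mero.KStalk X y.1) (X.presheaf.germ U y.1 y.2 r) * ·)
    (Mero.kmod_one_apply X (U := (⊤ : X.Opens)) ⟨y.1, trivial⟩)).trans (mul_one _)

theorem mono_oneHom {E : Mero.Divisor X} (hE : Mero.IsEffective E) : Mono (oneHom hE) := by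
  refine QCoh.mono_of_app_injective _ fun U r r' h => ?_
  refine TopCat.Presheaf.section_ext X.sheaf U r r' fun z hz => Mero.algebraMap_KStalk_injective z ?_
  exact (oneHom_app hE U r ⟨z, hz⟩).symm.trans ((congrArg (fun t : Γ(Mero.divMod E, U) => t.1 ⟨z, hz⟩) h).trans (oneHom_app hE U r' ⟨z, hz⟩))

theorem surjective_stalk_oneHom [IsLocallyNoetherian X] {E : Mero.Divisor X} (hE : Mero.IsEffective E) (x : X)
    (hx : ∀ z : X, z ⤳ x → z = x) : Function.Surjective (RefHull.stalkMapₗ (oneHom hE) x) := by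
  obtain ⟨U, hxU, f, hD, hf⟩ := DivX.exists_gen_frame E x
  obtain ⟨r, hr⟩ := (hf U le_rfl).2 ((oneHom hE).app U (1 : Γ(X, U)))
  have h1 := congrArg (fun t : Γ(Mero.divMod E, U) => t.1 ⟨x, hxU⟩) hr
  rw [oneHom_app, map_one, map_one] at h1
  replace h1 : algebraMap (X.presheaf.stalk x) (Mero.KStalk X x) (X.presheaf.germ U x hxU r) *
      ((f⁻¹ : (Γ(Mero.kmod X, U))ˣ) : Γ(Mero.kmod X, U)).1 ⟨x, hxU⟩ = 1 := by
    rw [← h1, ← Algebra.smul_def]
    rfl
  have hnzd : X.presheaf.germ U x hxU r ∈ nonZeroDivisors (X.presheaf.stalk x) := by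
    refine mem_nonZeroDivisors_iff_right.2 fun b hb => Mero.algebraMap_KStalk_injective x ?_
    have := congrArg (algebraMap (X.presheaf.stalk x) (Mero.KStalk X x)) hb
    rw [map_mul, map_zero] at this
    rw [map_zero]
    exact (IsUnit.of_mul_eq_one _ h1).mul_left_eq_zero.1 this
  obtain ⟨u, hu⟩ := AssPtX.isUnit_of_mem_nonZeroDivisors x hx hnzd
  intro q
  obtain ⟨c, rfl⟩ := (hf.germ_bijective hxU).2 q
  refine ⟨(show X.presheaf.stalk x from c * (↑u⁻¹ : X.presheaf.stalk x)) •
    ((Coh.structureModule X).presheaf.germ U x hxU (1 : Γ(X, U))), ?_⟩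
  rw [map_smul, RefHull.stalkMapₗ_germ, ← hr, Mero.germ_smul]
  erw [InvX.germ_res']
  rw [smul_smul, ← hu, mul_assoc, Units.inv_mul, mul_one]

variable (k : Type u) [Field k] [X.Over (Spec (CommRingCat.of k))] [IsProper (X ↘ Spec (CommRingCat.of k))]

include k in
theorem h0_divMod_le (hdim : topologicalKrullDim X ≤ 1) (D D' : Mero.Divisor X) (hle : Mero.DivLE D' D) :
    Module.finrank k (Coh.HH X (Mero.divMod D') 0) ≤ Module.finrank k (Coh.HH X (Mero.divMod D) 0) ∧
      (Module.finrank k (Coh.HH X (Mero.divMod D) 0) : ℤ) ≤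
        (Module.finrank k (Coh.HH X (Mero.divMod D') 0) : ℤ) + Curv2.deg k X (Mero.divMod (D * D'⁻¹)) 1 := by
  haveI := CurveCohLib.isNoetherian_of_proper (k := k) (X := X)
  haveI := mono_oneHom hle
  let E := D * D'⁻¹
  have hE : Coh.IsCoh (Mero.divMod E) := CurveDeg.isCoh_of_isInvertible (DivX.isInvertible_divMod E)
  let C := cokernel (oneHom hle)
  have hC : Coh.IsCoh C := QCoh.isCoh_cokernel QCoh.isQCoh_structureModule hE _
  have hcl : ∀ y ∈ CohB1.support C, IsClosed ({y} : Set X) := fun y hy => by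
    by_contra hyc
    refine hy (subsingleton_of_forall_eq 0 fun z => ?_)
    let F := DerSch.stalkFunctor X y
    obtain ⟨a, rfl⟩ := (ModuleCat.epi_iff_surjective (F.map (cokernel.π (oneHom hle)))).1 inferInstance z
    obtain ⟨b, rfl⟩ := surjective_stalk_oneHom hle y (fun z hz => eq_of_specializes_nonclosed hdim hyc hz) a
    show F.map (cokernel.π (oneHom hle)) (F.map (oneHom hle) b) = 0
    rw [← ConcreteCategory.comp_apply, ← F.map_comp, cokernel.condition, F.map_zero]
    rfl
  have hS := CurveSlope.shortExact_cokernel_of_mono (oneHom hle)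
  have hl := InvEnd.isFinLocFreeOfRank_one (DivX.isInvertible_divMod D')
  have hlf : FlatMod.IsFinLocFree (Mero.divMod D') := fun y => let ⟨W, hy, he⟩ := hl y; ⟨W, 1, hy, he⟩
  have hT := CurveTensor.shortExact_tensor hlf _ _ _ hS
  haveI := DivX.isIso_mulMap D' E
  let e : (DCoh.tensorBi.obj (Mero.divMod D')).obj (Mero.divMod E) ≅ Mero.divMod D :=
    asIso (DivX.mulMap D' E) ≪≫ eqToIso (congrArg Mero.divMod (mul_mul_inv_cancel'_right D' D))
  let e' : (DCoh.tensorBi.obj (Mero.divMod D')).obj (Coh.structureModule X) ≅ Mero.divMod D' :=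
    KFlatLib.tensorUnitIso _
  have hC' := CurveTensor.isCoh_tensor hlf hC
  haveI := CurveCohLib.finite_HH (k := k) hC' 0
  haveI := CurveCohLib.finite_HH (k := k) hE 0
  haveI : Module.Finite k (Coh.HH X ((DCoh.tensorBi.obj (Mero.divMod D')).obj (Mero.divMod E)) 0) :=
    CurveCohLib.finite_HH (k := k) (CurveTensor.isCoh_tensor hlf hE) 0
  have h1 := CurveTensor.euler_tensor_torsion k hl hC hcl
  rw [CurveCohLib.euler_eq_finrank_zero (k := k) hC'
    (fun y hy => hcl y (CurveTensor.support_tensor_subset hy))] at h1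
  have h2 := CurveBundle.euler_add' k _ _ _ hS QCoh.isCoh_structureModule' hE hC
  have hker := CurveCohLib.ker_mapLin_g k hT 0
  have hinj := CurveCohLib.mapLin_f_zero_injective k hT
  have hsum := LinearMap.finrank_range_add_finrank_ker (mapLin k
    ((DCoh.tensorBi.obj (Mero.divMod D')).map (cokernel.π (oneHom hle))) 0)
  rw [hker, LinearMap.finrank_range_of_inj hinj] at hsum
  have hq := Submodule.finrank_le (LinearMap.range (mapLin k
    ((DCoh.tensorBi.obj (Mero.divMod D')).map (cokernel.π (oneHom hle))) 0))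
  have hm := LinearMap.finrank_le_finrank_of_injective hinj
  have a1 := (CurveCohLib.hhEquiv (k := k) e 0).finrank_eq
  have a2 := (CurveCohLib.hhEquiv (k := k) e' 0).finrank_eq
  dsimp only at a1 a2 hsum hq hm
  unfold Curv2.deg
  dsimp only [C, E] at *
  refine ⟨by omega, ?_⟩
  rw [h2]
  push_cast at h1 ⊢
  omega

end Groth.Agent.CurvePt15
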