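import Groth.Agent.Lib.CurvePoint
import Groth.Agent.MorLib.ReducedKer
import Groth.Agent.Triage.SchDense
import Groth.Agent.Lib.InvEnd
import Groth.Agent.CurveCohLib.Proper
import Groth.Prelude.Def_Curv2

/-! Sections lost on twisting by a closed point, without hypotheses on the curve. -/

noncomputable section

set_option linter.style.haveILetI false
set_option linter.unusedSectionVars false
set_option backward.isDefEq.respectTransparency false
set_option backward.isDefEq.respectTransparency.types false

universe u

open CategoryTheory CategoryTheory.Limits AlgebraicGeometry TopologicalSpace Opposite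
open Groth.Agent.PnCoh.Finite (mapLin)

attribute [local instance] Curv2.resAlgebra Curv2.stalkAlgebra

namespace Groth.Agent.CurvePt15

open Groth.Agent Groth.Agent.CurvePoint

variable {X : Scheme.{u}} (x : X) (hx : IsClosed ({x} : Set X))

theorem ker_fromSpecResidueField_eq : (X.fromSpecResidueField x).ker = ptIdeal x hx := by
  have hr : closure (Set.range (X.fromSpecResidueField x).base) = {x} := by
    rw [Scheme.range_fromSpecResidueField, hx.closure_eq]
  refine le_antisymm ?_ ?_
  · refine Scheme.IdealSheafData.le_support_iff_le_vanishingIdeal.1 fun y hy => ?_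
    rw [← SetLike.mem_coe, MorLib.support_ker_eq_closure_range_of_isReduced, hr]
    exact hy
  · refine le_trans (Scheme.IdealSheafData.vanishingIdeal_antimono ?_)
      (Triage.SchDense.vanishingIdeal_le_ker (X.fromSpecResidueField x))
    exact hr.subset

variable (k : Type u) [Field k] [X.Over (Spec (CommRingCat.of k))]
  [IsProper (X ↘ Spec (CommRingCat.of k))]

/-- The sections of a closed point are its residue field. -/
theorem euler_quot_eq :
    Curv2.euler k X (ClSub.quotMod (ptIdeal x hx)) = Module.finrank k (X.residueField x) := by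
  classical
  haveI := CurveCohLib.isNoetherian_of_proper (k := k) (X := X)
  let Q := ClSub.quotMod (ptIdeal x hx)
  obtain ⟨h, hfin⟩ := CurveCohLib.euler_eq_sum_stalks (k := k) (ParShLib.isCoh_quotMod (ptIdeal x hx))
    (fun y hy => Set.mem_singleton_iff.1 (support_quot_subset x hx hy) ▸ hx) {x}
    (by simpa using support_quot_subset x hx)
  rw [h, Finset.sum_singleton]
  letI := CurveCohLib.stalkModuleK k Q x
  obtain ⟨q₀, hq₀⟩ : ∃ q₀ : Q.presheaf.stalk x, ∀ q, ∃ a : X.presheaf.stalk x, q = a • q₀ :=
    ParShLib.exists_germ_smul (ptIdeal x hx) x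
  let f : X.presheaf.stalk x →ₗ[k] Q.presheaf.stalk x :=
    { toFun := fun a => a • q₀
      map_add' := fun a b => add_smul a b q₀
      map_smul' := fun c a => by
        show (Curv2.stalkMap k X x c * a) • q₀ = Curv2.stalkMap k X x c • (a • q₀)
        rw [mul_smul] }
  let g : X.presheaf.stalk x →ₗ[k] X.residueField x :=
    { toFun := X.residue x
      map_add' := map_add _
      map_smul' := fun c a => map_mul (X.residue x).hom (Curv2.stalkMap k X x c) a }
  have hg : Function.Surjective g := IsLocalRing.residue_surjective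
  have hf : Function.Surjective f := fun q => let ⟨a, ha⟩ := hq₀ q; ⟨a, ha.symm⟩
  have hker : LinearMap.ker f = LinearMap.ker g := by
    refine Submodule.ext fun a => ?_
    simp only [LinearMap.mem_ker]
    refine ⟨fun h0 => (IsLocalRing.residue_eq_zero_iff a).2 (by_contra fun ha => ?_),
      fun h0 => smul_quot_eq_zero x hx ((IsLocalRing.residue_eq_zero_iff a).1 h0) q₀⟩
    obtain ⟨u, rfl⟩ := not_not.1 (mt (IsLocalRing.mem_maximalIdeal a).2 ha)
    have hq : q₀ = 0 := by
      exact (u.isUnit.smul_eq_zero).1 (h0 : (u : X.presheaf.stalk x) • q₀ = 0)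
    exact not_subsingleton_stalk x hx (subsingleton_of_forall_eq 0 fun q => by
      obtain ⟨b, rfl⟩ := hq₀ q; rw [hq, smul_zero])
  exact_mod_cast ((f.quotKerEquivOfSurjective hf).symm.trans ((Submodule.quotEquivOfEq _ _ hker).trans
    (g.quotKerEquivOfSurjective hg))).finrank_eq

include k in
/-- Twisting by the ideal of a closed point loses at most the residue degree in sections. -/
theorem h0_le_le {L : X.Modules} (hL : PicF.IsInvertible L) :
    Module.finrank k (Coh.HH X (CohB1.tensorMod L (ptMod x hx)) 0) ≤ Module.finrank k (Coh.HH X L 0) ∧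
      Module.finrank k (Coh.HH X L 0) ≤ Module.finrank k (Coh.HH X (CohB1.tensorMod L (ptMod x hx)) 0) +
        Module.finrank k (X.residueField x) := by
  haveI := CurveCohLib.isNoetherian_of_proper (k := k) (X := X)
  have hL1 := InvEnd.isFinLocFreeOfRank_one hL
  have hLf : FlatMod.IsFinLocFree L := fun y => let ⟨W, hy, he⟩ := hL1 y; ⟨W, 1, hy, he⟩
  have hQ := ParShLib.isCoh_quotMod (ptIdeal x hx)
  have hcl : ∀ y ∈ CohB1.support (ClSub.quotMod (ptIdeal x hx)), IsClosed ({y} : Set X) :=
    fun y hy => Set.mem_singleton_iff.1 (support_quot_subset x hx hy) ▸ hx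
  haveI := epi_toSubscheme (ptIdeal x hx)
  have hS : (ShortComplex.mk (ClSub.idealModι (ptIdeal x hx)) (ClSub.toSubscheme (ptIdeal x hx))
      (kernel.condition _)).ShortExact := CurveSlope.shortExact_kernel_of_epi _
  have hT : (ShortComplex.mk
      ((DCoh.tensorBi.obj L).map (ClSub.idealModι (ptIdeal x hx)) ≫ (KFlatLib.tensorUnitIso L).hom)
      ((KFlatLib.tensorUnitIso L).inv ≫ (DCoh.tensorBi.obj L).map (ClSub.toSubscheme (ptIdeal x hx)))
      (by rw [Category.assoc, Iso.hom_inv_id_assoc, ← Functor.map_comp,
        show ClSub.idealModι (ptIdeal x hx) ≫ ClSub.toSubscheme (ptIdeal x hx) = 0 from kernel.condition _,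
        Functor.map_zero])).ShortExact :=
    ShortComplex.shortExact_of_iso
      (S₁ := ShortComplex.mk ((DCoh.tensorBi.obj L).map (ClSub.idealModι (ptIdeal x hx)))
        ((DCoh.tensorBi.obj L).map (ClSub.toSubscheme (ptIdeal x hx))) (by
          rw [← Functor.map_comp, show ClSub.idealModι (ptIdeal x hx) ≫ ClSub.toSubscheme (ptIdeal x hx) = 0 from
            kernel.condition _, Functor.map_zero]))
      (ShortComplex.isoMk (Iso.refl _) (KFlatLib.tensorUnitIso L) (Iso.refl _)
      (by simp) (by simp)) (CurveTensor.shortExact_tensor hLf _ _ _ hS)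
  have hQ' := CurveTensor.isCoh_tensor hLf hQ
  haveI := CurveCohLib.finite_HH (k := k) (CurveDeg.isCoh_of_isInvertible hL) 0
  haveI := CurveCohLib.finite_HH (k := k) hQ' 0
  have h1 := CurveTensor.euler_tensor_torsion k hL1 hQ hcl
  rw [euler_quot_eq x hx k, CurveCohLib.euler_eq_finrank_zero (k := k) hQ'
    (fun y hy => hcl y (CurveTensor.support_tensor_subset hy))] at h1
  have hker := CurveCohLib.ker_mapLin_g k hT 0
  have hinj := CurveCohLib.mapLin_f_zero_injective k hT
  refine ⟨LinearMap.finrank_le_finrank_of_injective hinj, ?_⟩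
  have hsum := LinearMap.finrank_range_add_finrank_ker (mapLin k
    ((KFlatLib.tensorUnitIso L).inv ≫ (DCoh.tensorBi.obj L).map (ClSub.toSubscheme (ptIdeal x hx))) 0)
  have hle := Submodule.finrank_le (LinearMap.range (mapLin k
    ((KFlatLib.tensorUnitIso L).inv ≫ (DCoh.tensorBi.obj L).map (ClSub.toSubscheme (ptIdeal x hx))) 0))
  rw [show LinearMap.ker (mapLin k ((KFlatLib.tensorUnitIso L).inv ≫
    (DCoh.tensorBi.obj L).map (ClSub.toSubscheme (ptIdeal x hx))) 0) = _ from hker,
    LinearMap.finrank_range_of_inj hinj] at hsum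
  dsimp only at hsum hle h1
  simp only [Nat.cast_one, one_mul, Nat.cast_inj] at h1
  show _ ≤ Module.finrank k (Coh.HH X ((DCoh.tensorBi.obj L).obj (ClSub.idealMod (ptIdeal x hx))) 0) + _
  have h1' := hle.trans (le_of_eq (show _ = Module.finrank k (X.residueField x) from h1))
  omega

end Groth.Agent.CurvePt15
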